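import Groth.Agent.S5094
import Groth.Agent.BiratGen
import Mathlib

/-!
A proper birational morphism of integral schemes is an isomorphism near a normal point of codimension at most one.
-/

set_option autoImplicit false
set_option backward.isDefEq.respectTransparency false
set_option linter.style.haveILetI false
universe u
open CategoryTheory AlgebraicGeometry

namespace Groth.Agent.CodimOneIso

/-- A proper birational morphism is an isomorphism near a normal point of codimension at most one. -/
theorem exists_nhd_isIso {X Y : Scheme.{u}} (f : X ⟶ Y) [IsProper f] [IsIntegral X] [IsIntegral Y]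
    [IsLocallyNoetherian Y] (hξ : f (genericPoint ↥X) = genericPoint ↥Y)
    (hbir : Function.Bijective (f.stalkMap (genericPoint ↥X))) (y : Y)
    (hn : IsIntegrallyClosed (Y.presheaf.stalk y)) (hdim : ringKrullDim (Y.presheaf.stalk y) ≤ 1) :
    ∃ V : Y.Opens, y ∈ V ∧ IsIso (f ∣_ V) := by
  haveI : IsLocallyNoetherian X := LocallyOfFiniteType.isLocallyNoetherian f
  haveI : IsIntegrallyClosed (Y.presheaf.stalk y) := hn
  haveI : Ring.KrullDimLE 1 (Y.presheaf.stalk y) := Ring.krullDimLE_iff.2 (by simpa using hdim)
  haveI : Ring.DimensionLEOne (Y.presheaf.stalk y) := ⟨fun hp hprime =>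
    (Ring.krullDimLE_one_iff_of_isPrime_bot.1 inferInstance) _ hp hprime⟩
  haveI : IsDedekindRing (Y.presheaf.stalk y) := ⟨⟩
  haveI : IsDedekindDomain (Y.presheaf.stalk y) := ⟨⟩
  haveI : IsPrincipalIdealRing (Y.presheaf.stalk y) := IsPrincipalIdealRing.of_finite_maximals (by
    refine Set.Subsingleton.finite fun a ha b hb => ?_
    rw [IsLocalRing.eq_maximalIdeal ha, IsLocalRing.eq_maximalIdeal hb])
  haveI : ValuationRing (Y.presheaf.stalk y) := inferInstance
  let η := genericPoint X
  let θ : Y.functionField ⟶ X.functionField := Y.presheaf.stalkSpecializes (specializes_of_eq hξ) ≫ f.stalkMap η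
  have hθ : Function.Bijective θ := by
    haveI : IsIso (f.stalkMap η) := (ConcreteCategory.isIso_iff_bijective _).2 hbir
    haveI : IsIso (Y.presheaf.stalkSpecializes (specializes_of_eq hξ)) :=
      ⟨Y.presheaf.stalkSpecializes (specializes_of_eq hξ.symm),
        by rw [TopCat.Presheaf.stalkSpecializes_comp, TopCat.Presheaf.stalkSpecializes_refl],
        by rw [TopCat.Presheaf.stalkSpecializes_comp, TopCat.Presheaf.stalkSpecializes_refl]⟩
    exact ConcreteCategory.bijective_of_isIso θ
  haveI : IsIso θ := (ConcreteCategory.isIso_iff_bijective _).2 hθ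
  let j : Spec Y.functionField ⟶ Spec (Y.presheaf.stalk y) :=
    Spec.map (Y.presheaf.stalkSpecializes ((genericPoint_spec Y).specializes (Set.mem_univ y)))
  have key : ∀ x : X, f x = y → ∃ t : Spec (Y.presheaf.stalk y) ⟶ X,
      t ≫ f = Y.fromSpecStalk y ∧ t (IsLocalRing.closedPoint _) = x ∧
        j ≫ t = Spec.map (inv θ) ≫ X.fromSpecStalk η := by
    intro x hx
    subst hx
    have hη : η ⤳ x := (genericPoint_spec X).specializes (Set.mem_univ x)
    have hy' : genericPoint Y ⤳ f x := (genericPoint_spec Y).specializes (Set.mem_univ _)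
    have hsq : ∀ a : Y.presheaf.stalk (f x),
        algebraMap (X.presheaf.stalk x) X.functionField (f.stalkMap x a) =
          θ (algebraMap (Y.presheaf.stalk (f x)) Y.functionField a) := fun a => by
      show (f.stalkMap x ≫ X.presheaf.stalkSpecializes hη).hom a =
        (Y.presheaf.stalkSpecializes hy' ≫ Y.presheaf.stalkSpecializes (specializes_of_eq hξ) ≫ f.stalkMap η).hom a
      rw [← Category.assoc, TopCat.Presheaf.stalkSpecializes_comp, Scheme.Hom.stalkSpecializes_stalkMap f η x hη]
    have hbij : Function.Bijective (f.stalkMap x) := by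
      refine ⟨fun a b hab => ?_, fun r => ?_⟩
      · refine IsFractionRing.injective (Y.presheaf.stalk (f x)) Y.functionField (hθ.1 ?_)
        rw [← hsq, ← hsq, hab]
      · obtain ⟨z, hz⟩ := hθ.2 (algebraMap _ X.functionField r)
        rcases (ValuationRing.isInteger_or_isInteger (Y.presheaf.stalk (f x)) z) with ⟨a, ha⟩ | ⟨a, ha⟩
        · exact ⟨a, IsFractionRing.injective (X.presheaf.stalk x) X.functionField (by rw [hsq, ha, hz])⟩
        · by_cases hz0 : z = 0
          · exact ⟨0, IsFractionRing.injective (X.presheaf.stalk x) X.functionField (by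
              rw [hsq, ← hz, hz0, map_zero])⟩
          have hmul : f.stalkMap x a * r = 1 := IsFractionRing.injective (X.presheaf.stalk x) X.functionField (by
            rw [map_mul, map_one, hsq, ha, ← hz, ← map_mul θ.hom, inv_mul_cancel₀ hz0, map_one])
          obtain ⟨v, hv⟩ := isUnit_of_map_unit (f.stalkMap x).hom a (IsUnit.of_mul_eq_one _ hmul)
          refine ⟨↑v⁻¹, IsFractionRing.injective (X.presheaf.stalk x) X.functionField ?_⟩
          rw [hsq, ← hz]
          congr 1
          apply inv_injective
          rw [← ha, ← hv, map_units_inv, inv_inv]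
    haveI : IsIso (f.stalkMap x) := (ConcreteCategory.isIso_iff_bijective _).2 hbij
    refine ⟨Spec.map (inv (f.stalkMap x)) ≫ X.fromSpecStalk x, ?_, ?_, ?_⟩
    · rw [Category.assoc, ← Scheme.SpecMap_stalkMap_fromSpecStalk, ← Spec.map_comp_assoc, IsIso.hom_inv_id,
        Spec.map_id, Category.id_comp]
    · rw [Scheme.Hom.comp_apply]
      have : Spec.map (inv (f.stalkMap x)) (IsLocalRing.closedPoint _) = IsLocalRing.closedPoint _ :=
        IsLocalRing.comap_closedPoint (inv (f.stalkMap x)).hom
      rw [this]
      exact Scheme.fromSpecStalk_closedPoint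
    · have hc : inv (f.stalkMap x) ≫ Y.presheaf.stalkSpecializes hy' =
          X.presheaf.stalkSpecializes hη ≫ inv θ := by
        rw [IsIso.inv_comp_eq, ← Category.assoc, IsIso.eq_comp_inv]
        exact (CommRingCat.hom_ext (RingHom.ext fun a => hsq a)).symm
      show Spec.map _ ≫ Spec.map _ ≫ X.fromSpecStalk x = _
      rw [← Spec.map_comp_assoc]
      refine (congrArg (fun φ => Spec.map φ ≫ X.fromSpecStalk x) hc).trans ?_
      rw [Spec.map_comp_assoc, Scheme.SpecMap_stalkSpecializes_fromSpecStalk]
  obtain ⟨x, hx⟩ : ∃ x, f x = y := by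
    have hc : IsClosed (Set.range f) := f.isClosedMap.isClosed_range
    have : closure {genericPoint Y} ⊆ Set.range f :=
      closure_minimal (Set.singleton_subset_iff.2 ⟨_, hξ⟩) hc
    rw [(genericPoint_spec Y).def] at this
    exact this (Set.mem_univ y)
  have huniq : ∀ x' : X, f x' = y → x' = x := by
    intro x' hx'
    obtain ⟨t, ht, htx, htj⟩ := key x hx
    obtain ⟨t', ht', htx', htj'⟩ := key x' hx'
    haveI : IsDominant j := by
      refine ⟨?_⟩
      rw [DenseRange, dense_iff_inter_open]
      intro U hU ⟨q, hq⟩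
      refine ⟨⟨⊥, Ideal.isPrime_bot⟩, (specializes_iff_mem_closure.2 ?_).mem_open hU hq, ?_⟩
      · have hle : (⟨⊥, Ideal.isPrime_bot⟩ : PrimeSpectrum (Y.presheaf.stalk y)) ≤ q := bot_le
        exact ((PrimeSpectrum.le_iff_specializes _ _).1 hle).mem_closure
      · refine ⟨IsLocalRing.closedPoint _, PrimeSpectrum.ext ?_⟩
        show Ideal.comap (algebraMap (Y.presheaf.stalk y) Y.functionField) (IsLocalRing.maximalIdeal _) = ⊥
        rw [IsLocalRing.maximalIdeal_eq_bot]
        exact Ideal.comap_bot_of_injective _ (IsFractionRing.injective _ _)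
    have : t' = t := ext_of_isDominant_of_isSeparated f (ht'.trans ht.symm) j (htj'.trans htj.symm)
    rw [← htx, ← htx', this]
  obtain ⟨z, hz⟩ : ∃ z, f.fiberι y z = x := (Set.ext_iff.1 (f.range_fiberι y) x).2 hx
  have : Subsingleton ↥(f.fiber y) := ⟨fun a b => (f.fiberι y).isEmbedding.injective
    ((huniq _ ((f.range_fiberι y).le ⟨a, rfl⟩)).trans (huniq _ ((f.range_fiberι y).le ⟨b, rfl⟩)).symm)⟩
  refine Groth.Agent.S5094.result f hξ ((ConcreteCategory.isIso_iff_bijective _).2 hbir) y hn z ?_
  rw [show ({z} : Set ↥(f.fiber y)) = Set.univ from Set.eq_univ_of_forall fun w => Subsingleton.elim w z]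
  exact isOpen_univ

end Groth.Agent.CodimOneIso
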