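import Mathlib

/-!
Flat schemes over a domain: the open where a nonzero element is invertible is schematically dense.
-/

set_option autoImplicit false
set_option backward.isDefEq.respectTransparency false
set_option linter.style.haveILetI false
universe u

open CategoryTheory CategoryTheory.Limits AlgebraicGeometry TopologicalSpace Opposite

namespace Groth.Agent.CodimOneIso

variable {R : Type u} [CommRing R] [IsDomain R] {Z : Scheme.{u}} (q : Z ⟶ Spec (CommRingCat.of R)) [Flat q]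
  (ϖ : R) (hϖ : ϖ ≠ 0)

include hϖ in
theorem affine_facts {W : Z.Opens} (hW : IsAffineOpen W) :
    ∃ s : Γ(Z, W), Z.basicOpen s = W ⊓ q ⁻¹ᵁ PrimeSpectrum.basicOpen ϖ ∧
      Function.Injective (Z.presheaf.map (homOfLE (Z.basicOpen_le s)).op).hom := by
  let e := Scheme.ΓSpecIso (CommRingCat.of R)
  let t : Γ(Spec (CommRingCat.of R), ⊤) := e.inv ϖ
  have ht : t ≠ 0 := by
    intro h
    have := congrArg e.hom.hom h
    rw [map_zero] at this
    exact hϖ (((Iso.inv_hom_id_apply e ϖ).symm.trans this))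
  let s : Γ(Z, W) := (q.appLE ⊤ W le_top).hom t
  have hbo : Z.basicOpen s = W ⊓ q ⁻¹ᵁ PrimeSpectrum.basicOpen ϖ := by
    show Z.basicOpen ((Z.presheaf.map (homOfLE _).op).hom ((q.app ⊤).hom t)) = _
    rw [Scheme.basicOpen_res, ← Scheme.preimage_basicOpen, show (Spec (CommRingCat.of R)).basicOpen t =
      PrimeSpectrum.basicOpen ϖ from basicOpen_eq_of_affine (R := CommRingCat.of R) ϖ]
  refine ⟨s, hbo, ?_⟩
  letI : Algebra Γ(Spec (CommRingCat.of R), ⊤) Γ(Z, W) := (q.appLE ⊤ W le_top).hom.toAlgebra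
  haveI : Module.Flat Γ(Spec (CommRingCat.of R), ⊤) Γ(Z, W) :=
    HasRingHomProperty.appLE @Flat q inferInstance ⟨⊤, isAffineOpen_top _⟩ ⟨W, hW⟩ le_top
  haveI : IsDomain Γ(Spec (CommRingCat.of R), ⊤) :=
    e.commRingCatIsoToRingEquiv.toMulEquiv.isDomain (CommRingCat.of R)
  have hreg : IsSMulRegular Γ(Z, W) s := (IsRegular.of_ne_zero ht).isSMulRegular.of_flat
  letI : Algebra Γ(Z, W) Γ(Z, Z.basicOpen s) := (Z.presheaf.map (homOfLE (Z.basicOpen_le s)).op).hom.toAlgebra
  haveI : IsLocalization.Away s Γ(Z, Z.basicOpen s) := hW.isLocalization_basicOpen s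
  refine (injective_iff_map_eq_zero _).2 fun a ha => ?_
  obtain ⟨⟨_, n, rfl⟩, hn⟩ := (IsLocalization.map_eq_zero_iff (Submonoid.powers s) _ a).1 ha
  exact (hreg.pow n).right_eq_zero_of_smul hn

include hϖ in
/-- A nonempty open meets the open where `ϖ` is invertible. -/
theorem nonempty_inter_basicOpen (O : Z.Opens) (hO : (O : Set Z).Nonempty) :
    ((O ⊓ q ⁻¹ᵁ PrimeSpectrum.basicOpen ϖ : Z.Opens) : Set Z).Nonempty := by
  obtain ⟨x, hx⟩ := hO
  obtain ⟨W, hW, hxW, hWO⟩ := exists_isAffineOpen_mem_and_subset (U := O) hx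
  obtain ⟨s, hs, hinj⟩ := affine_facts q ϖ hϖ hW
  haveI : Nonempty W := ⟨⟨x, hxW⟩⟩
  by_contra hne
  have hbot : Z.basicOpen s = ⊥ := by
    rw [hs, ← le_bot_iff]
    intro y hy
    exact hne ⟨y, hWO hy.1, hy.2⟩
  haveI : Subsingleton Γ(Z, Z.basicOpen s) := by rw [hbot]; infer_instance
  exact not_subsingleton Γ(Z, W) hinj.subsingleton

include hϖ in
/-- An open is reduced if it is so where `ϖ` is invertible. -/
theorem isReduced_of_inter_basicOpen (O : Z.Opens)
    [IsReduced (O ⊓ q ⁻¹ᵁ PrimeSpectrum.basicOpen ϖ : Z.Opens).toScheme] : IsReduced O.toScheme := by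
  haveI : ∀ x : O.toScheme, _root_.IsReduced (O.toScheme.presheaf.stalk x) := fun x => by
    obtain ⟨W, hW, hxW, hWO⟩ := exists_isAffineOpen_mem_and_subset (U := O) x.2
    obtain ⟨s, hs, hinj⟩ := affine_facts q ϖ hϖ hW
    haveI : IsReduced (Z.basicOpen s).toScheme := isReduced_of_isOpenImmersion (Z.homOfLE
      (show Z.basicOpen s ≤ O ⊓ q ⁻¹ᵁ PrimeSpectrum.basicOpen ϖ from hs.trans_le (inf_le_inf_right _ hWO)))
    haveI : _root_.IsReduced Γ(Z, Z.basicOpen s) :=
      isReduced_of_injective (Z.basicOpen s).topIso.inv.hom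
        (Z.basicOpen s).topIso.symm.commRingCatIsoToRingEquiv.injective
    haveI : _root_.IsReduced Γ(Z, W) := isReduced_of_injective _ hinj
    letI := TopCat.Presheaf.algebra_section_stalk Z.presheaf (⟨x.1, hxW⟩ : W)
    haveI := hW.isLocalization_stalk ⟨x.1, hxW⟩
    haveI : _root_.IsReduced (Z.presheaf.stalk x.1) :=
      isReduced_localizationPreserves (hW.primeIdealOf ⟨x.1, hxW⟩).asIdeal.primeCompl _ ‹_›
    exact isReduced_of_injective (O.stalkIso x).hom.hom
      (O.stalkIso x).commRingCatIsoToRingEquiv.injective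
  exact isReduced_of_isReduced_stalk _

include hϖ in
/-- An open is integral if it is so where `ϖ` is invertible. -/
theorem isIntegral_of_inter_basicOpen (O : Z.Opens) (hO : (O : Set Z).Nonempty)
    [IsIntegral (O ⊓ q ⁻¹ᵁ PrimeSpectrum.basicOpen ϖ : Z.Opens).toScheme] : IsIntegral O.toScheme := by
  haveI := isReduced_of_inter_basicOpen q ϖ hϖ O
  let P : Z.Opens := O ⊓ q ⁻¹ᵁ PrimeSpectrum.basicOpen ϖ
  have hP : IsIrreducible (P : Set Z) := by
    have := (IrreducibleSpace.isIrreducible_univ P.toScheme).image P.ι P.ι.continuous.continuousOn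
    rwa [Set.image_univ, Scheme.Opens.range_ι] at this
  have hsub : (O : Set Z) ⊆ closure (P : Set Z) := by
    intro x hx
    rw [mem_closure_iff]
    intro V hV hxV
    obtain ⟨y, hy⟩ := nonempty_inter_basicOpen q ϖ hϖ (O ⊓ ⟨V, hV⟩) ⟨x, hx, hxV⟩
    exact ⟨y, hy.1.2, hy.1.1, hy.2⟩
  have hirr : IsIrreducible (O : Set Z) := by
    refine ⟨hO, fun u v hu hv ⟨a, haO, hau⟩ ⟨b, hbO, hbv⟩ => ?_⟩
    obtain ⟨a', ha'u, ha'P⟩ := mem_closure_iff.1 (hsub haO) u hu hau
    obtain ⟨b', hb'v, hb'P⟩ := mem_closure_iff.1 (hsub hbO) v hv hbv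
    obtain ⟨c, hcP, hc⟩ := hP.2 u v hu hv ⟨a', ha'P, ha'u⟩ ⟨b', hb'P, hb'v⟩
    exact ⟨c, hcP.1, hc⟩
  haveI : IrreducibleSpace O.toScheme := Subtype.irreducibleSpace hirr
  exact isIntegral_of_irreducibleSpace_of_isReduced _

end Groth.Agent.CodimOneIso
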